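import Cfsg.Agent.FS.N.M.MdX
import Cfsg.Agent.FS.N.Sq.M12
import Cfsg.Agent.OddHalf.Small.G23
import Cfsg.Agent.ChevalleyStructure.GraphG2

/-!
# S5288, models: `G₂(3).2` (helper46; the data are generated)

The group lies in the holomorph of `G₂(3)`; codes are words in the root elements and the graph automorphism.
-/

set_option autoImplicit false
set_option maxRecDepth 100000

namespace Cfsg.Agent.FS.N.Sg.G2

open Cfsg Cfsg.Lie Cfsg.Agent.FS.Real Cfsg.Agent.GTwoThree.Model Cfsg.Agent.OddHalf.Small.G23Check SemidirectProduct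

/-- the graph automorphism on the letters -/
def sg (k : ℕ) : ℕ := bif Nat.blt k 24 then 2 * get 4 0x98ba67451032 (k / 2) + k % 2 else k

theorem sg_sg (k : ℕ) : sg (sg k) = k := by
  rcases Nat.lt_or_ge k 24 with h | h
  · revert k
    decide +kernel
  · have h1 : sg k = k := by
      unfold sg
      cases h2 : Nat.blt k 24
      · rfl
      · exact absurd (blt_lt h2) (by omega)
    rw [h1, h1]

theorem y_val (r : Fin 12) (t : Fin 3) (ht : t.val ≠ 0) :
    ((y (2 * r.val + (t.val - 1)) : GL I14 (ZMod 3)) : Matrix I14 I14 (ZMod 3)) = chevG2.x (ZMod 3) r t.val := by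
  have h := θ_x r t
  rw [wx, if_neg ht, ev_cons, ev_nil, mul_one] at h
  refine h.trans (Eq.symm ?_)
  unfold ChevalleyDatum.x
  exact dif_pos (show r.val < chevG2.nroots from r.2)

theorem exists_beta : ∃ β : MulAut Gp, (∀ k, β (y k) = y (sg k)) ∧ β * β = 1 := by
  obtain ⟨β, hβ⟩ := ChevalleyStructure.GraphG2.exists_graph (K := ZMod 3) (by decide)
  have h1 : ∀ k, β (y k) = y (sg k) := fun k => by
    rcases Nat.lt_or_ge k 24 with h | h
    · have h2 : ∀ k < 24, ∃ (r s : Fin 12) (t : Fin 3), t.val ≠ 0 ∧ k = 2 * r.val + (t.val - 1) ∧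
          sg k = 2 * s.val + (t.val - 1) ∧ [2, 3, 0, 1, 5, 4, 7, 6, 10, 11, 8, 9].getD r 0 = s.val ∧
          (t.val : ZMod 3) ^ [1, 1, 3, 3, 3, 1, 1, 3, 3, 3, 1, 1].getD r 0 = t.val := by decide +kernel
      obtain ⟨r, s, t, ht, h3, h4, h5, h6⟩ := h2 k h
      refine Subtype.ext (Units.ext ?_)
      rw [h4, y_val s t ht, h3, hβ _ r _ r.2 (y_val r t ht), h5, h6]
    · have h2 : y k = 1 := Subtype.ext ((congrArg θ (X_big h)).trans (map_one θ))
      have h3 : sg k = k := by
        unfold sg
        cases h2 : Nat.blt k 24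
        · rfl
        · exact absurd (blt_lt h2) (by omega)
      rw [h3, h2]
      exact map_one β
  refine ⟨β, h1, ?_⟩
  have h2 : ∀ w, ev y w ∈ MonoidHom.eqLocus (β.toMonoidHom.comp β.toMonoidHom) (MonoidHom.id _) := fun w => by
    induction w with
    | nil => exact Subgroup.one_mem _
    | cons k w ih =>
      rw [ev_cons]
      refine Subgroup.mul_mem _ ?_ ih
      show β (β (y k)) = y k
      rw [h1, h1, sg_sg]
  have h3 := eq_top (h2 _) (h2 _) (h2 _) (h2 _) (h2 _)
  exact MulEquiv.ext fun g => (h3.ge (Subgroup.mem_top g) :)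

/-- the graph automorphism -/
noncomputable def β : MulAut Gp := Classical.choose exists_beta

theorem β_y (k : ℕ) : β (y k) = y (sg k) := (Classical.choose_spec exists_beta).1 k

theorem β_β : β * β = 1 := (Classical.choose_spec exists_beta).2

/-- the holomorph -/
abbrev Hol : Type := Gp ⋊[MonoidHom.id (MulAut Gp)] MulAut Gp

theorem finY : Finite Gp := Nat.finite_of_card_ne_zero (by rw [OddHalf.Small.G23.card_G]; norm_num)

theorem finH : Finite Hol :=
  haveI := finY
  haveI : Finite (MulAut Gp) := Finite.of_injective _ DFunLike.coe_injective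
  Finite.of_equiv _ equivProd.symm

/-- the digits -/
noncomputable def L (d : ℕ) : Hol := bif Nat.beq d 25 then inr β else inl (y ((d + 31) % 32))

/-- the value of the first `n` digits -/
noncomputable def evN (n : ℕ) : ℕ → Hol := Nat.rec (fun _ => 1) (fun _ r c => L (c % 32) * r (c / 32)) n

theorem evN_succ (n c : ℕ) : evN (n + 1) c = L (c % 32) * evN n (c / 32) := rfl

theorem evN_add : ∀ n a, a < 32 ^ n → ∀ m b, evN (m + n) (a + 32 ^ n * b) = evN n a * evN m b
  | 0, a, h, m, b => by
    rw [show a = 0 by omega, pow_zero, one_mul, Nat.zero_add]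
    exact (one_mul _).symm
  | n + 1, a, h, m, b => by
    rw [pow_succ] at h
    rw [← Nat.add_assoc, evN_succ, evN_succ, mul_assoc, ← evN_add n (a / 32) (by omega) m b, pow_succ', mul_assoc,
      Nat.add_mul_mod_self_left, Nat.add_mul_div_left _ _ (by norm_num)]

theorem evN_zero : ∀ n, evN n 0 = 1
  | 0 => rfl
  | n + 1 => by
    rw [evN_succ, evN_zero n, mul_one]
    exact (congrArg inl (Subtype.ext ((congrArg θ (X_big (k := 31) (by norm_num))).trans (map_one θ)))).trans (map_one _)

theorem evN_eq {n m a : ℕ} (hn : a < 32 ^ n) (hm : a < 32 ^ m) : evN n a = evN m a := by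
  have h1 := evN_add n a hn m 0
  have h2 := evN_add m a hm n 0
  rw [evN_zero, mul_one, mul_zero, Nat.add_zero] at h1 h2
  rw [← h1, ← h2, Nat.add_comm]

/-- the length of a code -/
def len (c : ℕ) : ℕ := c.log2 / 5 + 1

theorem lt_len (c : ℕ) : c < 32 ^ len c := by
  rw [show 32 = 2 ^ 5 from rfl, ← pow_mul]
  exact Nat.lt_log2_self.trans_le (Nat.pow_le_pow_right (by norm_num) (by unfold len; omega))

/-- the word in the root elements -/
noncomputable def wd (n : ℕ) : ℕ → Bool → List ℕ :=
  Nat.rec (fun _ _ => []) (fun _ r c p => Nat.rec (motive := fun _ => List ℕ) [] (fun k _ =>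
    bif Nat.beq ((k + 1) % 32) 25 then r ((k + 1) / 32) (!p)
    else (bif p then sg ((k + 32) % 32) else (k + 32) % 32) :: r ((k + 1) / 32) p) c) n

/-- the parity -/
noncomputable def pr (n : ℕ) : ℕ → Bool :=
  Nat.rec (fun _ => false) (fun _ r c => force c fun c => xor (Nat.beq (c % 32) 25) (r (c / 32))) n

/-- powers of the graph automorphism -/
noncomputable def B (p : Bool) : Hol := inr (bif p then β else 1)

theorem B_mul (p q : Bool) : B p * B q = B (xor p q) := by
  unfold B
  rw [← map_mul]
  cases p <;> cases q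
  exacts [congrArg _ (one_mul _), congrArg _ (one_mul _), congrArg _ (mul_one _), congrArg _ β_β]

theorem B_inl (p : Bool) (k : ℕ) : B p * inl (y k) = inl (y (bif p then sg k else k)) * B p := by
  cases p
  · rw [show B false = 1 from map_one _, one_mul, mul_one]
    rfl
  · rw [cond_true, ← β_y]
    exact (eq_mul_inv_iff_mul_eq.1 ((inl_aut β (y k)).trans (by rw [map_inv]; rfl))).symm

theorem evN_wd : ∀ n c p, B p * evN n c = inl (ev y (wd n c p)) * B (xor p (pr n c))
  | 0, c, p => by
    rw [show wd 0 c p = [] from rfl, show pr 0 c = false from rfl, Bool.xor_false, ev_nil, map_one, one_mul]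
    exact mul_one _
  | n + 1, 0, p => by
    have h : ∀ m, pr m 0 = false := fun m => by
      induction m with
      | zero => rfl
      | succ m ih => exact (Bool.false_xor _).trans ih
    rw [evN_zero, show wd (n + 1) 0 p = [] from rfl, h, Bool.xor_false, ev_nil, map_one, one_mul, mul_one]
  | n + 1, k + 1, p => by
    have h1 : wd (n + 1) (k + 1) p = bif Nat.beq ((k + 1) % 32) 25 then wd n ((k + 1) / 32) (!p)
      else (bif p then sg ((k + 32) % 32) else (k + 32) % 32) :: wd n ((k + 1) / 32) p := rfl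
    have h2 : pr (n + 1) (k + 1) = xor (Nat.beq ((k + 1) % 32) 25) (pr n ((k + 1) / 32)) := rfl
    rw [evN_succ, h1, h2, L, ← mul_assoc]
    cases Nat.beq ((k + 1) % 32) 25
    · rw [cond_false, cond_false, B_inl, mul_assoc, evN_wd n, Bool.false_xor, ev_cons, map_mul, mul_assoc,
        show ((k + 1) % 32 + 31) % 32 = (k + 32) % 32 by omega]
    · rw [cond_true, cond_true, show (inr β : Hol) = B true from rfl, B_mul, Bool.xor_true, evN_wd n]
      cases p <;> cases pr n ((k + 1) / 32) <;> rfl

theorem ev_len (c : ℕ) : evN (len c) c = inl (ev y (wd (len c) c false)) * B (pr (len c) c) := by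
  have h := evN_wd (len c) c false
  rwa [show B false = 1 from map_one _, one_mul, Bool.false_xor] at h

/-- The model of the holomorph. -/
noncomputable def mH : Mdl Hol where
  R c g := evN (len c) c = g
  mul a b := a + 32 ^ len a * b
  one := 0
  eqv a b := force a fun a => force b fun b =>
    !xor (pr (len a) a) (pr (len b) b) && eqc (wd (len a) a false) (wd (len b) b false)
  neq a b := force a fun a => force b fun b => nec (wd (len a) a false) (wd (len b) b false)
  ok _ _ := true
  R_one := evN_zero _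
  R_mul := by
    rintro a b _ _ rfl rfl
    rw [← evN_add _ a (lt_len a)]
    refine evN_eq (lt_len _) ?_
    have h1 := Nat.mul_le_mul_left (32 ^ len a) (Nat.succ_le_of_lt (lt_len b))
    have h2 := lt_len a
    rw [pow_add, mul_comm (32 ^ len b)]
    rw [Nat.mul_succ] at h1
    omega
  eq_of := by
    rintro a b _ _ rfl rfl h
    rw [force_eq, force_eq, Bool.and_eq_true] at h
    rw [ev_len, ev_len, eq_of_eqc h.2]
    have h1 := h.1
    revert h1
    cases pr (len a) a <;> cases pr (len b) b <;> simp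
  ne_of := by
    rintro a b _ _ rfl rfl h e
    rw [force_eq, force_eq] at h
    rw [ev_len, ev_len] at e
    have h1 := congrArg SemidirectProduct.left e
    simp only [B, mul_left, left_inl, left_inr, map_one, mul_one] at h1
    exact ne_of_nec h h1
  ex_of := fun _ => ⟨_, rfl⟩

/-- the normal subgroup `G₂(3)` -/
abbrev Nn : Subgroup Hol := (inl : Gp →* Hol).range

theorem hok (a w : ℕ) (h : (fun a _ => !pr (len a) a) a w = true) : ∃ g ∈ Nn, mH.R a g := by
  refine ⟨_, ?_, rfl⟩
  have h1 : pr (len a) a = false := (Bool.not_eq_true' _).mp h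
  rw [ev_len, h1, show B false = 1 from map_one _, mul_one]
  exact ⟨_, rfl⟩

theorem card_Nn : Nat.card Nn = 2 ^ 6 * 66339 := by
  rw [← OddHalf.Small.G23.card_G]
  exact (Nat.card_congr (MonoidHom.ofInjective inl_injective).toEquiv).symm

theorem norm_Nn (g : Hol) : g ∈ Subgroup.normalizer (Nn : Set Hol) := by
  have : Nn.Normal := by
    rw [Nn, range_inl_eq_ker_rightHom]
    infer_instance
  rw [Subgroup.normalizer_eq_top]
  exact Subgroup.mem_top g

/-- the codes of the generators -/
def X : ℕ → ℕ := get 64 0x2ccb30000000004985d2200000000000331d4000000000002b57300000002dd8161820000000000b72e65000000c9989b3dc2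

/-- the generators in the holomorph -/
noncomputable def x0 (i : ℕ) : Hol := evN (len (X i)) (X i)

theorem hx0 : mH.RX Sq.dM122 X x0 := fun _ _ => rfl

/-- the certificates -/
def ct : M.Ct where
  lc := [(64, 60, 0x1a166061),
      (64, 8, 0x470583561)]
  ec := [(60, 8)]
  lr := [⟨2, 0xec1dd68, 0, 2, 3⟩,
      ⟨4, 0x45dae3, 0, 2, 3⟩,
      ⟨8, 0x55572d605, 0, 2, 3⟩]
  ls := [(2, 4), (6, 2), (28, 4), (88, 2), (26, 4), (94, 2), (68, 4), (6, 8), (14, 4), (106, 2), (40, 8), (88, 8)]
  g0 := [64, 32, 16, 8, 4, 2]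
  K := 0x55555555555555555555555555555555
  e := 6
  zl := [64]
  o := []
  ln := []
  en := []

/-- the group -/
noncomputable abbrev G : Subgroup Hol := M.ext Nn 7 x0

/-- the generators -/
noncomputable def x : ℕ → G := M.extX Nn 7 x0

theorem base : M.Base Sq.dM122 G x Sq.GM12.K :=
  haveI := finH
  (M.base_ext hok hx0 Sq.dM122_ok (fun _ _ => norm_Nn _) ct (by rw [card_Nn]; decide) (by decide +kernel)
    (by decide +kernel) (by decide +kernel)).1

theorem rz : M.Rz2 ⟨Sq.dM122, 1, 0⟩ G x := base.rz2 Sq.GM12.K_lam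

theorem pos : Pos Sq.dM122 x 7 0x9214901416169 0x60504030201 0x60504030201 0 :=
  (M.rx_ext hok hx0).pos 0x21f825081 0 0x21f825081 0 (by decide +kernel)

theorem nt : M.NT Sq.dM122 x Sq.GM12.x :=
  haveI := Sq.GM12.base.fin
  M.nt_of_sep (pos.sep_card (by decide +kernel) (by rw [Sq.GM12.card]; norm_num))

/-- **The entry `G₂(3).2`, `M₁₂.2`.** -/
theorem models : Models2 ⟨Sq.dM122, 1, 0⟩ 2 := M.models2_two rz Sq.GM12.rz nt

end Cfsg.Agent.FS.N.Sg.G2
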