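import Cfsg.Agent.FS.N.M.MdX
import Cfsg.Agent.FS.N.Sg.Orth

/-!
# S5288, models: separation by orbits with wide entries; centralizers of involutions (helper46)
-/

set_option autoImplicit false

namespace Cfsg.Agent.FS.N.Sg

open Cfsg Cfsg.Agent.FS.Real

/-- check: the orbit `A` of length `m` with the two permutations `s₁`, `s₂` -/
noncomputable def orbF (D : PcD) (m : ℕ) (A s₁ s₂ : ℕ → ℕ) : Bool :=
  Nat.blt 0 m && (allB m fun k => Nat.blt (A k) (2 ^ D.n) && Nat.blt (s₁ k) m && Nat.blt (s₂ k) m &&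
    (allB k fun j => !Nat.beq (A j) (A k)) && (Nat.beq k 0 || anyB k fun j => Nat.beq (s₁ j) k || Nat.beq (s₂ j) k))

section

variable {G G' : Type} [Group G] [Group G'] {D : PcD}

/-- Two elements fixing `z` act on the orbit. -/
def PosF (D : PcD) (x : ℕ → G) (m : ℕ) (A s₁ s₂ : ℕ → ℕ) (z : ℕ) : Prop :=
  ∃ g₁ g₂ : G, (∀ k, k < m → Act D x g₁ (A k) (A (s₁ k))) ∧ (∀ k, k < m → Act D x g₂ (A k) (A (s₂ k))) ∧
    Act D x g₁ z z ∧ Act D x g₂ z z

/-- check for `PosF` -/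
noncomputable def posF (M : Mdl G) (D : PcD) (X : ℕ → ℕ) (m : ℕ) (A s₁ s₂ : ℕ → ℕ) (z c₁ c₂ : ℕ) : Bool :=
  M.ok c₁ 0 && M.ok c₂ 0 && (allB m fun k => M.act D X c₁ (A k) (A (s₁ k))) &&
    (allB m fun k => M.act D X c₂ (A k) (A (s₂ k))) && M.act D X c₁ z z && M.act D X c₂ z z

theorem posF_of {M : Mdl G} {X : ℕ → ℕ} {x : ℕ → G} (hx : M.RX D X x) {m : ℕ} {A s₁ s₂ : ℕ → ℕ} {z : ℕ} (c₁ c₂ : ℕ)
    (h : posF M D X m A s₁ s₂ z c₁ c₂ = true) : PosF D x m A s₁ s₂ z := by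
  unfold posF at h
  simp only [Bool.and_eq_true] at h
  obtain ⟨⟨⟨⟨⟨h1, h2⟩, h3⟩, h4⟩, h5⟩, h6⟩ := h
  obtain ⟨g₁, k₁⟩ := M.ex_of h1
  obtain ⟨g₂, k₂⟩ := M.ex_of h2
  exact ⟨g₁, g₂, fun _ hk => hx.act k₁ (allB_spec h3 hk), fun _ hk => hx.act k₂ (allB_spec h4 hk), hx.act k₁ h5,
    hx.act k₂ h6⟩

theorem PosF.sep [Finite G'] {x : ℕ → G} {x' : ℕ → G'} {m : ℕ} {A s₁ s₂ : ℕ → ℕ} {z : ℕ} (h : PosF D x m A s₁ s₂ z)
    (ho : orbF D m A s₁ s₂ = true) (hz : D.cinv z = true)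
    (hn : ∀ S', Gen D S' x' → ∀ w ∈ D.zl, ¬ m ∣ Nat.card (Subgroup.centralizer {el x' D.n w} : Subgroup G')) :
    Sep D x x' := by
  obtain ⟨g₁, g₂, a₁, a₂, z₁, z₂⟩ := h
  intro S' y H' H hT
  obtain ⟨k₁, b₁⟩ := hT g₁
  obtain ⟨k₂, b₂⟩ := hT g₂
  obtain ⟨c1, c2, c3⟩ := H.cinv hz
  obtain ⟨w, hw, h1⟩ := H'.central (H.el_mem' z) c1 c2 c3
  refine hn S' H' w hw ?_
  unfold orbF at ho
  rw [Bool.and_eq_true] at ho
  have h : ∀ k, k < m → A k < D.N ∧ s₁ k < m ∧ s₂ k < m ∧ (∀ j, j < k → A j ≠ A k) ∧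
      (0 < k → ∃ j, j < k ∧ (s₁ j = k ∨ s₂ j = k)) := by
    intro k hk
    have h1 := allB_spec ho.2 hk
    simp only [Bool.and_eq_true, Bool.or_eq_true] at h1
    obtain ⟨⟨⟨⟨h2, h3⟩, h4⟩, h5⟩, h6⟩ := h1
    refine ⟨blt_lt h2, blt_lt h3, blt_lt h4, fun j hj => nbeq_ne (allB_spec h5 hj), fun h0 => ?_⟩
    rcases h6 with h6 | h6
    · exact absurd (beq_eq h6) h0.ne'
    · obtain ⟨j, hj, h7⟩ := anyB_spec h6
      rw [Bool.or_eq_true] at h7
      exact ⟨j, hj, h7.imp beq_eq beq_eq⟩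
  have k := orbit_dvd (Subgroup.centralizer {el y D.n z}) (ζ := 1) (fun g => by rw [one_mul, mul_one])
    (Subgroup.one_mem _) (Subgroup.mem_centralizer_singleton_iff.2 (b₁ _ _ z₁))
    (Subgroup.mem_centralizer_singleton_iff.2 (b₂ _ _ z₂)) (blt_lt ho.1) (t := fun k => el y D.n (A k)) (σ₁ := s₁)
    (σ₂ := s₂) (fun j k hj hk h1 => (h k hk).2.2.2.1 j hj (H.inj (h j (hj.trans hk)).1 (h k hk).1 h1))
    (fun k hk => ⟨(h k hk).2.1, (b₁ _ _ (a₁ k hk)).conj⟩) (fun k hk => ⟨(h k hk).2.2.1, (b₂ _ _ (a₂ k hk)).conj⟩)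
    fun k h0 hk => (h k hk).2.2.2.2 h0
  rwa [orderOf_one, mul_one, ← h1] at k

/-- check: an element of order `p` centralizes `el w` -/
noncomputable def cenP (M : Mdl G) (D : PcD) (X : ℕ → ℕ) (w p c : ℕ) : Bool :=
  M.ok c 0 && M.eqv (M.pw c p) M.one && M.neq c M.one && M.act D X c w w

theorem dvd_cent [Finite G] {M : Mdl G} {X : ℕ → ℕ} {x : ℕ → G} (hx : M.RX D X x) {w p : ℕ} (hp : p.Prime) (c : ℕ)
    (h : cenP M D X w p c = true) : p ∣ Nat.card (Subgroup.centralizer {el x D.n w} : Subgroup G) := by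
  have : Fact p.Prime := ⟨hp⟩
  unfold cenP at h
  simp only [Bool.and_eq_true] at h
  obtain ⟨⟨⟨h1, h2⟩, h3⟩, h4⟩ := h
  obtain ⟨g, hg⟩ := M.ex_of h1
  rw [← orderOf_eq_prime (M.eq_of (Mdl.R_pw hg p) M.R_one h2) (M.ne_of hg M.R_one h3)]
  exact Subgroup.orderOf_dvd_natCard _ (Subgroup.mem_centralizer_singleton_iff.2 (hx.act hg h4))

end

/-- `A₁₂` as a commutator subgroup -/
abbrev A12 : Type := commutator (Equiv.Perm (Fin 12))

theorem comm_eq : commutator (Equiv.Perm (Fin 12)) = alternatingGroup (Fin 12) :=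
  alternatingGroup.commutator_perm_eq (by rw [Nat.card_fin]; norm_num)

theorem card_A12 : Nat.card A12 = 239500800 := by
  rw [A12, comm_eq, nat_card_alternatingGroup, Nat.card_fin]
  rfl

/-- The model of `A₁₂`. -/
noncomputable def mA12 : Mdl A12 := mCom (mSym 4 12 (by norm_num)) 48

theorem cent_A12 {t : A12} (h1 : t ≠ 1) (h2 : t * t = 1) : ¬ 27 ∣ Nat.card (Subgroup.centralizer {t} : Subgroup A12) := by
  intro h9
  have : Fact (Nat.Prime 2) := ⟨Nat.prime_two⟩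
  have h0 : Nat.card (Subgroup.centralizer {t} : Subgroup A12) ∣
      Nat.card (Subgroup.centralizer {(t : Equiv.Perm (Fin 12))} : Subgroup (Equiv.Perm (Fin 12))) := by
    rw [← Subgroup.card_map_of_injective (f := (commutator (Equiv.Perm (Fin 12))).subtype) Subtype.val_injective]
    refine Subgroup.card_dvd_of_le ?_
    rintro _ ⟨g, hg, rfl⟩
    rw [SetLike.mem_coe, Subgroup.mem_centralizer_singleton_iff] at hg
    exact Subgroup.mem_centralizer_singleton_iff.2 (congrArg Subtype.val hg)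
  have h3 : (t : Equiv.Perm (Fin 12)) ^ 2 = 1 := by
    rw [pow_two]
    exact congrArg Subtype.val h2
  have h4 := Equiv.Perm.cycleType_of_pow_prime_eq_one h3
  have h5 := (t : Equiv.Perm (Fin 12)).sum_cycleType
  have h6 : Equiv.Perm.sign (t : Equiv.Perm (Fin 12)) = 1 := Equiv.Perm.mem_alternatingGroup.1 (comm_eq ▸ t.2)
  have h7 : (t : Equiv.Perm (Fin 12)).support.card ≤ 12 := by
    have := Finset.card_le_univ (t : Equiv.Perm (Fin 12)).support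
    rwa [Fintype.card_fin] at this
  have h8 := h9.trans h0
  have h10 : (t : Equiv.Perm (Fin 12)).cycleType.card ≠ 0 := fun h =>
    h1 (Subtype.ext (Equiv.Perm.card_cycleType_eq_zero.1 h))
  rw [Equiv.Perm.nat_card_centralizer, h4] at h8
  rw [Equiv.Perm.sign_of_cycleType, h4, Multiset.sum_replicate, Multiset.card_replicate] at h6
  rw [h4, Multiset.sum_replicate, smul_eq_mul] at h5
  generalize (t : Equiv.Perm (Fin 12)).cycleType.card = k at h5 h6 h8 h10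
  have h11 : k = 1 ∨ k = 2 ∨ k = 3 ∨ k = 4 ∨ k = 5 ∨ k = 6 := by omega
  rcases h11 with rfl | rfl | rfl | rfl | rfl | rfl <;> revert h6 h8 <;> decide

end Cfsg.Agent.FS.N.Sg
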